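import Groth.Agent.Lib.Semiab15.SubExt
import Groth.Agent.Lib.Semiab15.Isog
import Groth.Agent.Lib.LMSimple8.SerreLemma
import Groth.Agent.Lib.Chevalley25.Component
import Groth.Agent.Lib.Cartier.Smooth

/-!
# Rational points and torsion points of semiabelian groups in characteristic zero
-/

set_option autoImplicit false
set_option maxSynthPendingDepth 3
set_option backward.isDefEq.respectTransparency false

universe u

open CategoryTheory CategoryTheory.Limits MonoidalCategory CartesianMonoidalCategory MonObj AlgebraicGeometry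

noncomputable section

namespace Groth.Agent.OneMot8

open Semiab15 (IsSA NoTor)

variable {k : Type u} [Field k]

/-- The base as an object over itself. -/
abbrev T0 (k : Type u) [Field k] : Over (Spec (CommRingCat.of k)) := Over.mk (𝟙 (Spec (CommRingCat.of k)))

theorem isReduced_grp [CharZero k] (G : Over (Spec (CommRingCat.of k))) [GrpObj G] [LocallyOfFiniteType G.hom] :
    IsReduced G.left := by
  haveI := Cartier.smooth_of_charZero G
  exact OrbitTop19.isReduced_of_smooth G.hom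

variable [IsAlgClosed k]

theorem exists_point_at {X : Over (Spec (CommRingCat.of k))} [LocallyOfFiniteType X.hom] {z : X.left}
    (hz : z ∈ closedPoints X.left) : ∃ x : T0 k ⟶ X, x.left (IsLocalRing.closedPoint k) = z := by
  let q := (pointEquivClosedPoint X.hom).symm ⟨z, hz⟩
  refine ⟨Over.homMk q.1 q.2, ?_⟩
  exact congrArg Subtype.val ((pointEquivClosedPoint X.hom).apply_symm_apply ⟨z, hz⟩)

theorem eq_of_apply {Y : Over (Spec (CommRingCat.of k))} [LocallyOfFiniteType Y.hom] {x y : T0 k ⟶ Y}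
    (h : x.left (IsLocalRing.closedPoint k) = y.left (IsLocalRing.closedPoint k)) : x = y :=
  Over.OverMorphism.ext (ext_of_apply_closedPoint_eq Y.hom (Over.w x) (Over.w y) h)

/-- Rational points lift along surjections. -/
theorem lift_point {X Y : Over (Spec (CommRingCat.of k))} [LocallyOfFiniteType X.hom] [LocallyOfFiniteType Y.hom]
    (f : X ⟶ Y) [Surjective f.left] (y : T0 k ⟶ Y) : ∃ x : T0 k ⟶ X, x ≫ f = y := by
  haveI : JacobsonSpace X.left := LocallyOfFiniteType.jacobsonSpace (Y := Spec (CommRingCat.of k)) X.hom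
  have hc : IsClosed ({y.left (IsLocalRing.closedPoint k)} : Set Y.left) :=
    (pointEquivClosedPoint Y.hom ⟨y.left, Over.w y⟩).2
  obtain ⟨w, hw⟩ := f.left.surjective (y.left (IsLocalRing.closedPoint k))
  obtain ⟨z, hz, hzc⟩ := nonempty_inter_closedPoints (Z := f.left ⁻¹' {y.left (IsLocalRing.closedPoint k)})
    ⟨w, hw⟩ (hc.preimage f.left.continuous).isLocallyClosed
  obtain ⟨x, hx⟩ := exists_point_at hzc
  exact ⟨x, eq_of_apply (by rw [Over.comp_left, Scheme.Hom.comp_apply, hx]; exact hz)⟩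

/-- Morphisms out of reduced schemes are determined by rational points. -/
theorem ext_pts {X Y : Over (Spec (CommRingCat.of k))} [LocallyOfFiniteType X.hom] [IsReduced X.left]
    [LocallyOfFiniteType Y.hom] [IsSeparated Y.hom] (a b : X ⟶ Y) (h : ∀ x : T0 k ⟶ X, x ≫ a = x ≫ b) : a = b := by
  haveI : LocallyOfFiniteType (a.left ≫ Y.hom) := by rw [Over.w]; infer_instance
  refine Over.OverMorphism.ext (ext_of_apply_eq Y.hom Set.univ isOpen_univ.isLocallyClosed dense_univ
    (fun z _ hz => ?_) (by rw [Over.w, Over.w]))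
  obtain ⟨x, rfl⟩ := exists_point_at (X := X) (z := z) hz
  have := congrArg (fun w : T0 k ⟶ Y => w.left (IsLocalRing.closedPoint k)) (h x)
  simpa only [Over.comp_left, Scheme.Hom.comp_apply] using this

variable [CharZero k]

theorem eq_one_of_pts {X Y : Over (Spec (CommRingCat.of k))} [GrpObj X] [LocallyOfFiniteType X.hom] [GrpObj Y]
    [LocallyOfFiniteType Y.hom] (a : X ⟶ Y) (h : ∀ x : T0 k ⟶ X, x ≫ a = 1) : a = 1 := by
  haveI := isReduced_grp X
  haveI : IsSeparated Y.hom := AbRigid.isSeparated_of_grpObj Y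
  exact ext_pts a 1 fun x => by rw [h x, MonObj.comp_one]

/-- Absence of torsion is seen on rational points. -/
theorem noTor_of_pts {H : Over (Spec (CommRingCat.of k))} [GrpObj H] [IsCommMonObj H] [LocallyOfFiniteType H.hom]
    {r : ℕ} (h : ∀ x : T0 k ⟶ H, x ^ r = 1 → x = 1) : NoTor r H := by
  intro Y y hy
  haveI := Semiab15.isMonHom_pow (𝟙 H) r
  obtain ⟨N, _, n, hn, hnc, hk⟩ := CharTorus15.exists_kernel (𝟙 H ^ r)
  haveI : LocallyOfFiniteType N.hom := by rw [← Over.w n]; infer_instance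
  obtain ⟨c, rfl⟩ := CharTorus15.exists_lift hk y (by rw [MonObj.comp_pow, Category.comp_id, hy])
  have hn1 : n = 1 := eq_one_of_pts n fun x => h _ (by
    have e := congrArg (fun w => x ≫ w) (CharTorus15.comp_eq_one hk)
    simpa only [MonObj.comp_pow, Category.comp_id, MonObj.comp_one] using e)
  rw [hn1, MonObj.comp_one]

/-- Some positive power of a rational point lies in the neutral component. -/
theorem exists_pow_neutral (K : Over (Spec (CommRingCat.of k))) [GrpObj K] [IsCommMonObj K]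
    [LocallyOfFiniteType K.hom] [QuasiCompact K.hom] :
    ∃ (B : Over (Spec (CommRingCat.of k))) (_ : GrpObj B) (j : B ⟶ K), IsMonHom j ∧ IsClosedImmersion j.left ∧
      Smooth B.hom ∧ ConnectedSpace ↥B.left ∧ ∀ a : T0 k ⟶ K, ∃ n : ℕ, 0 < n ∧ ∃ b : T0 k ⟶ B, b ≫ j = a ^ n := by
  classical
  haveI := Cartier.smooth_of_charZero K
  obtain ⟨B, _, j, hj, hjo, hjc, hBs, -, hBn⟩ := Chevalley25.exists_neutral K
  haveI := hj; haveI := hjo; haveI := hjc
  refine ⟨B, inferInstance, j, hj, hjc, hBs, hBn, fun a => ?_⟩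
  haveI : CompactSpace K.left := QuasiCompact.compactSpace_of_compactSpace K.hom
  haveI ho : ∀ h, IsOpenImmersion (j ≫ Chevalley25.tau h).left := fun h => by
    rw [Over.comp_left]; infer_instance
  obtain ⟨F, hF⟩ := isCompact_univ.elim_finite_subcover (fun h => Set.range (j ≫ Chevalley25.tau (G := K) h).left)
    (fun h => (ho h).base_open.isOpen_range)
    (fun x _ => Set.mem_iUnion.2 (Chevalley25.exists_translate K j x))
  have key : ∀ x : T0 k ⟶ K, ∃ h : F, ∃ b : T0 k ⟶ B, x = Chevalley25.cst (T0 k) h.1 * (b ≫ j) := by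
    intro x
    obtain ⟨h, hh⟩ := Set.mem_iUnion.1 (hF (Set.mem_univ (x.left (IsLocalRing.closedPoint k))))
    obtain ⟨hhF, hh⟩ := Set.mem_iUnion.1 hh
    haveI := ho h
    have hr : Set.range x.left ⊆ Set.range (j ≫ Chevalley25.tau h).left := by
      rintro _ ⟨p, rfl⟩
      rwa [show p = IsLocalRing.closedPoint k from Subsingleton.elim (α := PrimeSpectrum k) _ _]
    have hl := IsOpenImmersion.lift_fac (j ≫ Chevalley25.tau h).left x.left hr
    let b : T0 k ⟶ B := Over.homMk (IsOpenImmersion.lift (j ≫ Chevalley25.tau h).left x.left hr) (by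
      rw [← Over.w (j ≫ Chevalley25.tau h), ← Category.assoc, hl, Over.w])
    refine ⟨⟨h, hhF⟩, b, ?_⟩
    rw [← Chevalley25.comp_tau, Category.assoc]
    exact Over.OverMorphism.ext hl.symm
  choose hc bc hbc using fun n : ℕ => key (a ^ n)
  obtain ⟨n₁, n₂, hne, heq⟩ := Finite.exists_ne_map_eq_of_infinite hc
  letI : CommGroup (T0 k ⟶ K) := Hom.commGroup
  wlog hlt : n₁ < n₂ generalizing n₁ n₂
  · exact this n₂ n₁ hne.symm heq.symm (by omega)
  refine ⟨n₂ - n₁, by omega, bc n₂ * (bc n₁)⁻¹, ?_⟩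
  rw [MonObj.mul_comp, GrpObj.inv_comp, pow_sub _ hlt.le, hbc n₁, hbc n₂, heq]
  rw [← div_eq_mul_inv, ← div_eq_mul_inv, mul_div_mul_left_eq_div]

variable {G G' : Over (Spec (CommRingCat.of k))} [GrpObj G] [IsCommMonObj G] [GrpObj G'] [IsCommMonObj G']
  [LocallyOfFiniteType G.hom] [QuasiCompact G.hom] [LocallyOfFiniteType G'.hom] [QuasiCompact G'.hom]

omit [CharZero k] in
/-- Semiabelian groups are divisible on rational points. -/
theorem divide (hG : IsSA G) {n : ℕ} (hn : 0 < n) (y : T0 k ⟶ G) : ∃ x : T0 k ⟶ G, x ^ n = y := by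
  obtain ⟨h1, h2⟩ := Semiab15.flat_surjective_pow hG hn
  haveI := h2
  obtain ⟨x, hx⟩ := lift_point (𝟙 G ^ n) y
  exact ⟨x, by rw [← hx, MonObj.comp_pow, Category.comp_id]⟩

/-- Torsion points are dense. -/
theorem eq_one_of_torsion (hG : IsSA G) (d : G ⟶ G') [IsMonHom d]
    (h : ∀ n : ℕ, 0 < n → ∀ g : T0 k ⟶ G, g ^ n = 1 → g ≫ d = 1) : d = 1 := by
  obtain ⟨I, _, m, p, hm, hmc, hp, hps, hpm, hI⟩ := Semiab15.isSA_image hG d
  haveI := hm; haveI := hmc; haveI := hp; haveI := hps
  haveI : Mono m := Over.mono_of_mono_left m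
  haveI := AbelGrp20.isCommMonObj_of_mono m
  haveI : LocallyOfFiniteType I.hom := by rw [← Over.w m]; infer_instance
  haveI : QuasiCompact I.hom := by rw [← Over.w m]; infer_instance
  obtain ⟨K, _, κ, hκ, hκc, hk⟩ := CharTorus15.exists_kernel p
  haveI := hκ; haveI := hκc
  haveI : Mono κ := Over.mono_of_mono_left κ
  haveI := AbelGrp20.isCommMonObj_of_mono κ
  haveI : LocallyOfFiniteType K.hom := by rw [← Over.w κ]; infer_instance
  haveI : QuasiCompact K.hom := by rw [← Over.w κ]; infer_instance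
  obtain ⟨B, _, j, hj, hjc, hBs, hBn, hpow⟩ := exists_pow_neutral K
  haveI := hj; haveI := hjc; haveI := hBs; haveI := hBn
  haveI : IsClosedImmersion (j ≫ κ).left := by rw [Over.comp_left]; infer_instance
  haveI : Mono (j ≫ κ) := Over.mono_of_mono_left _
  haveI := AbelGrp20.isCommMonObj_of_mono (j ≫ κ)
  haveI : QuasiCompact B.hom := by rw [← Over.w (j ≫ κ)]; infer_instance
  have hB := Semiab15.isSA_sub hG (j ≫ κ)
  have hN : NoTor 2 I := noTor_of_pts fun q hq => by
    obtain ⟨g, rfl⟩ := lift_point p q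
    obtain ⟨a, ha⟩ := CharTorus15.exists_lift hk (g ^ 2) (by rw [Isogeny14.hom_pow_comp p g, hq])
    obtain ⟨n, hn, b, hb⟩ := hpow a
    obtain ⟨b₁, hb₁⟩ := divide hB (n := 2 * n) (by omega) b
    letI : CommGroup (T0 k ⟶ G) := Hom.commGroup
    have e : (g * (b₁ ≫ j ≫ κ)⁻¹) ^ (2 * n) = 1 := by
      rw [mul_pow, inv_pow, pow_mul g 2 n, ← Isogeny14.hom_pow_comp (j ≫ κ) b₁, hb₁, ← ha,
        ← Isogeny14.hom_pow_comp κ a, ← hb, Category.assoc, mul_inv_cancel]
    have e1 := h _ (by omega) _ e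
    rw [← hpm, ← Category.assoc, ← MonObj.one_comp m, cancel_mono, MonObj.mul_comp, GrpObj.inv_comp,
      Category.assoc, Category.assoc, CharTorus15.comp_eq_one hk, MonObj.comp_one, MonObj.comp_one, inv_one,
      _root_.mul_one] at e1
    exact e1
  rw [← hpm, ← Category.comp_id p, LMSimple8.SerreLemma.trivial_of_noTor hI Nat.prime_two hN, MonObj.comp_one,
    MonObj.one_comp]

/-- A homomorphism of semiabelian groups injective on torsion is a monomorphism. -/
theorem mono_of_torsion (hG : IsSA G) (f : G ⟶ G') [IsMonHom f]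
    (hi : ∀ n : ℕ, 0 < n → ∀ g : T0 k ⟶ G, g ^ n = 1 → g ≫ f = 1 → g = 1) : Mono f := by
  obtain ⟨K, _, κ, hκ, hκc, hk⟩ := CharTorus15.exists_kernel f
  haveI := hκ; haveI := hκc
  haveI : Mono κ := Over.mono_of_mono_left κ
  haveI := AbelGrp20.isCommMonObj_of_mono κ
  haveI : LocallyOfFiniteType K.hom := by rw [← Over.w κ]; infer_instance
  haveI : QuasiCompact K.hom := by rw [← Over.w κ]; infer_instance
  have hKt : ∀ n : ℕ, 0 < n → ∀ a : T0 k ⟶ K, a ^ n = 1 → a = 1 := fun n hn a ha => by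
    rw [← cancel_mono κ, MonObj.one_comp]
    refine hi n hn _ ?_ (by rw [Category.assoc, CharTorus15.comp_eq_one hk, MonObj.comp_one])
    rw [← Isogeny14.hom_pow_comp κ a, ha, MonObj.one_comp]
  haveI : IsFinite K.hom := Semiab15.isFinite_of_noTor hG κ Nat.prime_two (noTor_of_pts (hKt 2 two_pos))
  obtain ⟨B, _, j, hj, hjc, hBs, hBn, hpow⟩ := exists_pow_neutral K
  haveI := hj; haveI := hjc; haveI := hBs; haveI := hBn
  haveI : IsFinite B.hom := by rw [← Over.w j]; infer_instance
  have hκ1 : κ = 1 := eq_one_of_pts κ fun a => by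
    obtain ⟨n, hn, b, hb⟩ := hpow a
    rw [hKt n hn a (by rw [← hb, ← Category.comp_id b, Semiab15.trivial_of_finite_connected B, MonObj.comp_one,
      MonObj.one_comp]), MonObj.one_comp]
  exact ⟨fun {Y} x y hxy => by
    letI : CommGroup (Y ⟶ G) := Hom.commGroup
    obtain ⟨c, hc⟩ := CharTorus15.exists_lift hk (x * y⁻¹) (by
      rw [MonObj.mul_comp, GrpObj.inv_comp, hxy, mul_inv_cancel])
    rw [hκ1, MonObj.comp_one] at hc
    exact eq_of_mul_inv_eq_one hc.symm⟩

/-- A monomorphism of semiabelian groups surjective on torsion is an isomorphism. -/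
theorem isIso_of_torsion (hG : IsSA G) (hG' : IsSA G') (f : G ⟶ G') [IsMonHom f] [Mono f]
    (hs : ∀ n : ℕ, 0 < n → ∀ g' : T0 k ⟶ G', g' ^ n = 1 → ∃ g, g ≫ f = g') : IsIso f := by
  haveI : IsClosedImmersion f.left := Semiab15.isClosedImmersion_of_trivial_kernel f
  obtain ⟨Q, _, q, hq, hQc, hQl, hQq, -, hqs, -, hkq⟩ := Semiab15.exists_quot f
  haveI := hq; haveI := hQc; haveI := hQl; haveI := hQq; haveI := hqs
  obtain ⟨I, _, m, p, hm, hmc, hp, hps, hpm, hI⟩ := Semiab15.isSA_image hG' q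
  haveI := hm; haveI := hmc; haveI := hp; haveI := hps
  haveI : Mono m := Over.mono_of_mono_left m
  haveI := AbelGrp20.isCommMonObj_of_mono m
  haveI : LocallyOfFiniteType I.hom := by rw [← Over.w m]; infer_instance
  haveI : QuasiCompact I.hom := by rw [← Over.w m]; infer_instance
  have hN : NoTor 2 I := noTor_of_pts fun x hx => by
    rw [← cancel_mono m, MonObj.one_comp]
    obtain ⟨g', hg'⟩ := lift_point q (x ≫ m)
    obtain ⟨g₀, hg₀⟩ := CharTorus15.exists_lift hkq (g' ^ 2) (by
      rw [Isogeny14.hom_pow_comp q g', hg', ← Isogeny14.hom_pow_comp m x, hx, MonObj.one_comp])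
    obtain ⟨g₁, hg₁⟩ := divide hG two_pos g₀
    letI : CommGroup (T0 k ⟶ G') := Hom.commGroup
    obtain ⟨g₂, hg₂⟩ := hs 2 two_pos (g' * (g₁ ≫ f)⁻¹) (by
      rw [mul_pow, inv_pow, ← Isogeny14.hom_pow_comp f g₁, hg₁, hg₀, mul_inv_cancel])
    have e := congrArg (· ≫ q) hg₂
    simp only [MonObj.mul_comp, GrpObj.inv_comp, Category.assoc, CharTorus15.comp_eq_one hkq, MonObj.comp_one,
      inv_one, _root_.mul_one, hg'] at e
    exact e.symm
  have hq1 : q = 1 := by
    rw [← hpm, ← Category.comp_id p, LMSimple8.SerreLemma.trivial_of_noTor hI Nat.prime_two hN, MonObj.comp_one,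
      MonObj.one_comp]
  obtain ⟨l, hl⟩ := CharTorus15.exists_lift hkq (𝟙 G') (by rw [hq1, MonObj.comp_one])
  exact ⟨l, by rw [← cancel_mono f, Category.assoc, hl, Category.comp_id, Category.id_comp], hl⟩

end Groth.Agent.OneMot8
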