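import Groth.Agent.Lib.OneMot8.Pts
import Groth.Agent.Lib.GrpShEx23.Glue
import Groth.Agent.Lib.AlgSpDescent.FppfComp
import Groth.Agent.Lib.AlgSpDescent.SchemeSource
import Groth.Prelude.Def_OneMot

/-!
# Sheaf theoretic extensions of abelian varieties by tori are semiabelian groups
-/

set_option autoImplicit false
set_option maxSynthPendingDepth 3
set_option backward.isDefEq.respectTransparency false

universe u

open CategoryTheory CategoryTheory.Limits MonoidalCategory CartesianMonoidalCategory MonObj AlgebraicGeometry Opposite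

noncomputable section

namespace Groth.Agent.OneMot8

open Semiab15 (IsSA)

section Points

variable {S : Scheme.{u}} {T G A : Over S} [GrpObj T] [IsCommMonObj T] [GrpObj G] [IsCommMonObj G]
  [GrpObj A] [IsCommMonObj A] {i : T ⟶ G} {p : G ⟶ A} [IsMonHom i] [IsMonHom p] {w : i ≫ p = 1}

theorem mono_of_shortExact (hex : (CGrpSh.seq Scheme.fppfPrecoverage i p w).ShortExact) : Mono i := by
  haveI : Mono (CGrpSh.seq Scheme.fppfPrecoverage i p w).f := hex.mono_f
  haveI : Mono (CGrpSh.ptsMap Scheme.fppfPrecoverage i) := ‹Mono (CGrpSh.seq Scheme.fppfPrecoverage i p w).f›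
  refine ⟨fun {Y} a b hab => ?_⟩
  haveI : Mono ((sheafToPresheaf _ _).map (CGrpSh.ptsMap Scheme.fppfPrecoverage i)) := inferInstance
  have hinj := (AddCommGrpCat.mono_iff_injective _).1
    (inferInstance : Mono (((sheafToPresheaf _ _).map (CGrpSh.ptsMap Scheme.fppfPrecoverage i)).app (op Y)))
  have := hinj (a₁ := GrpShEx23.el Scheme.fppfPrecoverage a) (a₂ := GrpShEx23.el Scheme.fppfPrecoverage b)
    (ULift.ext _ _ (congrArg Additive.ofMul hab))
  exact congrArg (fun z => z.down.toMul) this

theorem lift_of_shortExact (hex : (CGrpSh.seq Scheme.fppfPrecoverage i p w).ShortExact) {Y : Over S} (x : Y ⟶ G)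
    (hx : x ≫ p = 1) : ∃ y : Y ⟶ T, y ≫ i = x := by
  haveI := mono_of_shortExact hex
  have hR := GrpShEx23.liftSieve_mem_of_exact Scheme.fppfPrecoverage i p w hex.exact x hx
  let y : ∀ ⦃V : Over S⦄ (g : V ⟶ Y), GrpShEx23.liftSieve i x g → (V ⟶ T) := fun V g hg => hg.choose
  have hy : ∀ ⦃V : Over S⦄ (g : V ⟶ Y) (hg : GrpShEx23.liftSieve i x g), y g hg ≫ i = g ≫ x :=
    fun V g hg => hg.choose_spec
  obtain ⟨a, ha⟩ := GrpShEx23.exists_glue Scheme.fppfPrecoverage hR y fun V W g hg e => by
    rw [← cancel_mono i, hy, Category.assoc, Category.assoc, hy]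
  exact ⟨a, GrpShEx23.hom_ext_of_cover Scheme.fppfPrecoverage hR _ _ fun V g hg => by
    rw [← Category.assoc, ha g hg, hy]⟩

theorem isKernel_of_shortExact (hex : (CGrpSh.seq Scheme.fppfPrecoverage i p w).ShortExact) :
    AlgGrp.IsKernel i p := by
  haveI := mono_of_shortExact hex
  have hl : ∀ s : PullbackCone p η[A], ∃ l : s.pt ⟶ T, l ≫ i = s.fst := fun s =>
    lift_of_shortExact hex s.fst (by rw [s.condition, Hom.one_def, toUnit_unique s.snd (toUnit _)])
  choose l hl using hl
  exact ⟨⟨by rw [w, Hom.one_def]⟩, ⟨PullbackCone.IsLimit.mk _ l hl (fun s => toUnit_unique _ _)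
    (fun s m h1 _ => by rw [← cancel_mono i, h1, hl])⟩⟩

/-- The quotient has lifts over a faithfully flat cover of finite presentation. -/
theorem exists_cover (hex : (CGrpSh.seq Scheme.fppfPrecoverage i p w).ShortExact) (hA : CompactSpace A.left) :
    ∃ (V : Over S) (j : V ⟶ A) (y : V ⟶ G), y ≫ p = j ∧ Flat j.left ∧ LocallyOfFinitePresentation j.left ∧
      Surjective j.left ∧ CompactSpace V.left := by
  classical
  haveI : Epi (CGrpSh.seq Scheme.fppfPrecoverage i p w).g := hex.epi_g
  haveI : Epi (CGrpSh.ptsMap Scheme.fppfPrecoverage p) := ‹Epi (CGrpSh.seq Scheme.fppfPrecoverage i p w).g›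
  obtain ⟨R, hR, hlift⟩ := GrpShEx23.lifts_of_epi Scheme.fppfPrecoverage p A (𝟙 A)
  haveI : Scheme.fppfPrecoverage.{u}.HasIsos := by
    dsimp only [Scheme.fppfPrecoverage]; infer_instance
  haveI : Scheme.fppfPrecoverage.{u}.HasPullbacks := by
    dsimp only [Scheme.fppfPrecoverage]; infer_instance
  obtain ⟨P, hP, hPR⟩ := Precoverage.mem_toGrothendieck_iff_of_isStableUnderComposition.1 hR
  have hcov : ∀ a : A.left, ∃ (V : Scheme.{u}) (j : V ⟶ A.left) (W : V.Opens), R j ∧ Flat j ∧
      LocallyOfFinitePresentation j ∧ IsAffineOpen W ∧ a ∈ j '' W := fun a => by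
    obtain ⟨V, j, hj, v, hv⟩ := (Presieve.mem_comap_jointlySurjectivePrecoverage_iff Scheme.forget).1 hP.1 a
    obtain ⟨hf, hl⟩ := hP.2 hj
    obtain ⟨_, ⟨W, hW, rfl⟩, hvW, -⟩ := V.isBasis_affineOpens.exists_subset_of_mem_open (Set.mem_univ v) isOpen_univ
    exact ⟨V, j, W, hPR _ _ hj, hf, hl, hW, v, hvW, hv⟩
  choose V j W hj hf hl hW ha using hcov
  obtain ⟨F, hF⟩ := isCompact_univ.elim_finite_subcover (fun a => j a '' W a)
    (fun a => by haveI := hf a; haveI := hl a; exact (j a).isOpenMap _ (W a).isOpen)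
    (fun a _ => Set.mem_iUnion.2 ⟨a, ha a⟩)
  let g : ∀ a : F, (W a.1).toScheme ⟶ A.left := fun a => (W a.1).ι ≫ j a.1
  haveI hgf : ∀ a : F, Flat (g a) := fun a => by
    haveI := hf a.1
    exact inferInstanceAs (Flat ((W a.1).ι ≫ j a.1))
  haveI hgl : ∀ a : F, LocallyOfFinitePresentation (g a) := fun a => by
    haveI := hl a.1
    exact inferInstanceAs (LocallyOfFinitePresentation ((W a.1).ι ≫ j a.1))
  let V' : Over S := Over.mk (Sigma.desc g ≫ A.hom)
  let j' : V' ⟶ A := Over.homMk (Sigma.desc g) rfl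
  have hlift' : ∀ a : F, ∃ y : Over.mk (g a ≫ A.hom) ⟶ G, y ≫ p = Over.homMk (g a) := fun a => by
    obtain ⟨y, hy⟩ := hlift (g a) (R.downward_closed (hj a.1) (W a.1).ι)
    exact ⟨y, by rw [hy, Category.comp_id]⟩
  choose y hy using hlift'
  refine ⟨V', j', Over.homMk (Sigma.desc fun a => (y a).left) (Sigma.hom_ext _ _ fun a => ?_), ?_, ?_, ?_, ?_, ?_⟩
  · rw [Sigma.ι_desc_assoc, Over.w (y a)]
    exact (Sigma.ι_desc_assoc _ _ _).symm
  · refine Over.OverMorphism.ext (Sigma.hom_ext _ _ fun a => ?_)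
    show Sigma.ι _ a ≫ Sigma.desc (fun a => (y a).left) ≫ p.left = Sigma.ι _ a ≫ Sigma.desc g
    rw [Sigma.ι_desc_assoc, Sigma.ι_desc]
    exact congrArg Over.Hom.left (hy a)
  · exact IsZariskiLocalAtSource.sigmaDesc (P := @Flat) hgf
  · exact IsZariskiLocalAtSource.sigmaDesc (P := @LocallyOfFinitePresentation) hgl
  · refine ⟨fun a => ?_⟩
    obtain ⟨b, hb, v, hv, rfl⟩ := Set.mem_iUnion₂.1 (hF (Set.mem_univ a))
    refine ⟨Sigma.ι (fun a : F => (W a.1).toScheme) ⟨b, hb⟩ ⟨v, hv⟩, ?_⟩
    show (Sigma.ι (fun a : F => (W a.1).toScheme) ⟨b, hb⟩ ≫ Sigma.desc g) ⟨v, hv⟩ = _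
    rw [Sigma.ι_desc]
    rfl
  · haveI : ∀ a : F, CompactSpace (W a.1).toScheme := fun a => isCompact_iff_compactSpace.1 (hW a.1).isCompact
    show CompactSpace ↥(∐ fun a : F => (W a.1).toScheme)
    exact (sigmaMk fun a : F => (W a.1).toScheme).compactSpace

end Points

variable {k : Type u} [Field k]

/-- An extension in the sense of sheaves is an extension of algebraic groups. -/
theorem props_of_shortExact {T G A : Over (Spec (CommRingCat.of k))} [GrpObj T] [IsCommMonObj T] [GrpObj G]
    [IsCommMonObj G] [GrpObj A] [IsCommMonObj A] {i : T ⟶ G} {p : G ⟶ A} [IsMonHom i] [IsMonHom p] {w : i ≫ p = 1}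
    (hex : (CGrpSh.seq Scheme.fppfPrecoverage i p w).ShortExact) [LocallyOfFiniteType T.hom] [QuasiCompact T.hom]
    [LocallyOfFiniteType A.hom] [QuasiCompact A.hom] :
    LocallyOfFiniteType G.hom ∧ QuasiCompact G.hom ∧ Flat p.left ∧ Surjective p.left ∧ AlgGrp.IsKernel i p ∧
      (Smooth T.hom → Smooth A.hom → Smooth G.hom) := by
  haveI : CompactSpace A.left := QuasiCompact.compactSpace_of_compactSpace A.hom
  haveI := mono_of_shortExact hex
  obtain ⟨V, j, y, hy, hjf, hjl, hjs, hVc⟩ := exists_cover hex inferInstance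
  haveI := hjf; haveI := hjl; haveI := hjs; haveI := hVc
  haveI : LocallyOfFiniteType V.hom := by rw [← Over.w j]; infer_instance
  let a : T ⊗ V ⟶ G := (fst T V ≫ i) * (snd T V ≫ y)
  have hap : a ≫ p = snd T V ≫ j := by
    rw [MonObj.mul_comp, Category.assoc, w, MonObj.comp_one, _root_.one_mul, Category.assoc, hy]
  have hlift : ∀ s : PullbackCone p j, ∃ t : s.pt ⟶ T, t ≫ i = s.fst * (s.snd ≫ y)⁻¹ := fun s =>
    lift_of_shortExact hex _ (by
      rw [MonObj.mul_comp, GrpObj.inv_comp, Category.assoc, hy, s.condition, mul_inv_cancel])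
  choose t ht using hlift
  have hpb : IsPullback a (snd T V) p j := by
    refine ⟨⟨hap⟩, ⟨PullbackCone.IsLimit.mk _ (fun s => lift (t s) s.snd) (fun s => ?_) (fun s => ?_)
      (fun s m h1 h2 => ?_)⟩⟩
    · rw [MonObj.comp_mul, lift_fst_assoc, lift_snd_assoc, ht, inv_mul_cancel_right]
    · exact lift_snd _ _
    · refine CartesianMonoidalCategory.hom_ext _ _ ?_ (by rw [lift_snd, h2])
      rw [lift_fst, ← cancel_mono i, Category.assoc, ht, ← h1]
      rw [MonObj.comp_mul, reassoc_of% h2, mul_inv_cancel_right]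
  have hpl : IsPullback a.left (snd T V).left p.left j.left := hpb.map (Over.forget _)
  haveI : Flat a.left := MorphismProperty.of_isPullback (P := @Flat) hpl.flip hjf
  haveI : Surjective a.left := MorphismProperty.of_isPullback (P := @Surjective) hpl.flip hjs
  haveI : LocallyOfFinitePresentation a.left :=
    MorphismProperty.of_isPullback (P := @LocallyOfFinitePresentation) hpl.flip hjl
  haveI hGl : LocallyOfFiniteType G.hom := by
    refine AlgSpDescent.locallyOfFiniteType_of_fppf_comp a.left G.hom ‹_› ‹_› ‹_› ?_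
    rw [Over.w]
    exact inferInstanceAs (LocallyOfFiniteType (pullback.fst T.hom V.hom ≫ T.hom))
  haveI hGq : QuasiCompact G.hom := by
    haveI : QuasiCompact V.hom := quasiCompact_iff_compactSpace V.hom |>.2 hVc
    haveI : QuasiCompact (T ⊗ V).hom := inferInstanceAs (QuasiCompact (pullback.fst T.hom V.hom ≫ T.hom))
    haveI : CompactSpace (T ⊗ V).left := QuasiCompact.compactSpace_of_compactSpace (T ⊗ V).hom
    refine quasiCompact_iff_compactSpace G.hom |>.2 ⟨?_⟩
    rw [← a.left.surjective.range_eq]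
    exact isCompact_range a.left.continuous
  haveI : Surjective p.left := by
    haveI : Surjective (a.left ≫ p.left) := by
      rw [hpl.w]
      haveI : Surjective (snd T V).left := by
        haveI : Surjective T.hom := ⟨fun z => ⟨η[T].left z, Subsingleton.elim (α := PrimeSpectrum k) _ _⟩⟩
        exact inferInstanceAs (Surjective (pullback.snd T.hom V.hom))
      infer_instance
    exact Surjective.of_comp a.left p.left
  haveI : Flat p.left := by
    haveI : Flat (a.left ≫ p.left) := by
      rw [hpl.w]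
      haveI : Flat (snd T V).left := by
        haveI : Flat T.hom := inferInstance
        exact inferInstanceAs (Flat (pullback.snd T.hom V.hom))
      infer_instance
    exact AlgSpDescent.flat_of_comp_flat_surjective a.left p.left
  refine ⟨hGl, hGq, inferInstance, inferInstance, isKernel_of_shortExact hex, fun hTs hAs => ?_⟩
  haveI := hTs; haveI := hAs
  haveI : Smooth p.left := by
    haveI : Smooth (snd T V).left := inferInstanceAs (Smooth (pullback.snd T.hom V.hom))
    exact MorphismProperty.of_isPullback_of_descendsAlong (P := @Smooth)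
      (Q := @Surjective ⊓ @Flat ⊓ @LocallyOfFinitePresentation) hpl.flip ⟨⟨hjs, hjf⟩, hjl⟩ ‹_›
  rw [← Over.w p]
  infer_instance

theorem isSA_of_isSemiAbWith {T G A : Over (Spec (CommRingCat.of k))} [GrpObj T] [IsCommMonObj T] [GrpObj G]
    [IsCommMonObj G] [GrpObj A] [IsCommMonObj A] {i : T ⟶ G} {p : G ⟶ A} [IsMonHom i] [IsMonHom p]
    (h : OneMot.IsSemiAbWith T G A i p) : IsSA G ∧ LocallyOfFiniteType G.hom ∧ QuasiCompact G.hom := by
  haveI := h.abelian.smooth
  haveI := h.abelian.proper
  haveI : CompactSpace A.left := QuasiCompact.compactSpace_of_compactSpace A.hom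
  haveI : ConnectedSpace A.left := by
    let s : ↥(Spec (CommRingCat.of k)) := IsLocalRing.closedPoint k
    haveI := h.abelian.connectedFibres s
    have hs : Set.range (A.hom.fiberι s) = Set.univ := by
      rw [Scheme.Hom.range_fiberι]
      exact Set.eq_univ_of_forall fun z => Subsingleton.elim (α := PrimeSpectrum k) _ _
    exact (Set.range_eq_univ.1 hs).connectedSpace (A.hom.fiberι s).continuous
  obtain ⟨hTl, hTq, -, -⟩ := Semiab15.torus_props h.torus
  haveI := hTl; haveI := hTq
  haveI := mono_of_shortExact h.shortExact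
  have hk := isKernel_of_shortExact h.shortExact
  obtain ⟨hGl, hGq, hpf, hps, -, -⟩ := props_of_shortExact h.shortExact
  haveI := hGl; haveI := hGq; haveI := hpf; haveI := hps
  haveI := Semiab15.isClosedImmersion_of_trivial_kernel i
  exact ⟨⟨T, inferInstance, i, A, inferInstance, p, inferInstance, inferInstance, h.torus, inferInstance,
    inferInstance, inferInstance, hk, inferInstance, inferInstance, inferInstance⟩, hGl, hGq⟩

end Groth.Agent.OneMot8
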