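import Groth.Agent.Lib.OneMot8.Pts
import Groth.Agent.Lib.ConstExt19.Split
import Groth.Agent.Lib.MTRigid29.ExtendScheme
import Groth.Agent.Lib.MTRigid29.ConstS
import Groth.Prelude.Def_OneMot

/-!
# Lattices over an algebraically closed field
-/

set_option autoImplicit false
set_option maxSynthPendingDepth 3
set_option backward.isDefEq.respectTransparency false

universe u

open CategoryTheory CategoryTheory.Limits MonoidalCategory CartesianMonoidalCategory MonObj AlgebraicGeometry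

noncomputable section

namespace Groth.Agent.OneMot8

open MTRigid29 DiagGL

variable {k : Type u} [Field k]

theorem const_point_pt {I : Type u} (x : T0 k ⟶ TwC.const (Spec (CommRingCat.of k)) I) :
    ∃ a, TwC.pt (Spec (CommRingCat.of k)) I a = x := by
  obtain ⟨a, ha⟩ := mem_piece_self x (IsLocalRing.closedPoint k)
  refine ⟨a, ?_⟩
  rw [eq_toUnit_pt x a fun z => by rwa [show z = IsLocalRing.closedPoint k from Subsingleton.elim (α := PrimeSpectrum k) _ _]]
  rw [show toUnit (T0 k) = 𝟙 _ from toUnit_unique _ _, Category.id_comp]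

theorem pt_injective {I : Type u} {a b : I}
    (h : TwC.pt (Spec (CommRingCat.of k)) I a = TwC.pt (Spec (CommRingCat.of k)) I b) : a = b := by
  have ha := piece_toUnit_pt (T := T0 k) (S := Spec (CommRingCat.of k)) a (IsLocalRing.closedPoint k)
  have hb := piece_toUnit_pt (T := T0 k) (S := Spec (CommRingCat.of k)) b (IsLocalRing.closedPoint k)
  rw [h] at ha
  exact eq_of_mem_piece _ ha hb

variable [IsAlgClosed k]

/-- A lattice over an algebraically closed field is the discrete scheme on a free group of finite rank. -/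
theorem lattice_points (L : Over (Spec (CommRingCat.of k))) [GrpObj L] (hL : OneMot.IsLattice L) :
    ∃ (r : ℕ) (_ : Multiplicative (Fin r → ℤ) ≃* (T0 k ⟶ L)),
      (∀ (X : Over (Spec (CommRingCat.of k))) (a b : L ⟶ X), (∀ x : T0 k ⟶ L, x ≫ a = x ≫ b) → a = b) ∧
      (∀ (X : Over (Spec (CommRingCat.of k))) (v : (T0 k ⟶ L) → (T0 k ⟶ X)), ∃ a : L ⟶ X, ∀ x, x ≫ a = v x) := by
  obtain ⟨S', f, hf, ⟨s, -⟩, r, e, he⟩ := hL (IsLocalRing.closedPoint k)
  haveI := hf
  haveI : JacobsonSpace S' := LocallyOfFiniteType.jacobsonSpace f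
  obtain ⟨z, -, hz⟩ := nonempty_inter_closedPoints (X := S') (Z := Set.univ) ⟨s, trivial⟩ isOpen_univ.isLocallyClosed
  let σ := ((pointEquivClosedPoint f).symm ⟨z, hz⟩).1
  have hσ : σ ≫ f = 𝟙 _ := ((pointEquivClosedPoint f).symm ⟨z, hz⟩).2
  obtain ⟨e', he'⟩ := ConstExt19.exists_const_ulift e he
  let Z := ULift.{u} (Multiplicative (Fin r → ℤ))
  let B := Red.bc σ (Red.bc f L)
  let E : B ≅ TwC.const (Spec (CommRingCat.of k)) Z := (Over.pullback σ).mapIso e' ≪≫ constBC σ Z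
  have hE : TwC.IsConstGrp Z B E := ConstExt19.isConstGrp_bc σ e' he'
  let p : B.left ⟶ L.left := pullback.fst (Red.bc f L).hom σ ≫ pullback.fst L.hom f
  have hp : IsPullback p B.hom L.hom (σ ≫ f) := Extend.isPullback_bc_comp L f σ
  haveI : IsIso (σ ≫ f) := by rw [hσ]; infer_instance
  haveI : IsIso p := hp.isIso_fst_of_isIso
  have hpw : p ≫ L.hom = B.hom := by rw [hp.w, hσ, Category.comp_id]
  let χ : B ≅ L := Over.isoMk (asIso p) hpw
  let tt : T0 k ⟶ (Over.map f).obj ((Over.map σ).obj (T0 k)) := Over.homMk (𝟙 _) (by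
    show 𝟙 _ ≫ (𝟙 _ ≫ σ) ≫ f = 𝟙 _
    rw [Category.id_comp, Category.id_comp, hσ])
  have hχ : ∀ x : T0 k ⟶ B, x ≫ χ.hom = tt ≫ fl f L (fl σ (Red.bc f L) x) := fun x => by
    refine Over.OverMorphism.ext ?_
    show x.left ≫ p = 𝟙 _ ≫ (fl f L (fl σ (Red.bc f L) x)).left
    rw [Category.id_comp, ConstExt19.fl_left, ConstExt19.fl_left]
    simp only [p, Category.assoc]
  have hmul : ∀ x y : T0 k ⟶ B, (x * y) ≫ χ.hom = (x ≫ χ.hom) * (y ≫ χ.hom) := fun x y => by
    rw [hχ, hχ, hχ, fl_mul, fl_mul, MonObj.comp_mul]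
  let ψ₀ : Z → (T0 k ⟶ L) := fun m => TwC.pt (Spec (CommRingCat.of k)) Z m ≫ E.inv ≫ χ.hom
  have hψm : ∀ m n, ψ₀ (m * n) = ψ₀ m * ψ₀ n := fun m n => by
    simp only [ψ₀, ← Category.assoc]
    rw [← hmul]
    exact congrArg (· ≫ χ.hom) (hE m n).symm
  have hψb : Function.Bijective ψ₀ := by
    refine ⟨fun a b h => pt_injective ((cancel_mono (E.inv ≫ χ.hom)).1 h), fun x => ?_⟩
    obtain ⟨a, ha⟩ := const_point_pt (x ≫ χ.inv ≫ E.hom)
    exact ⟨a, by simp [ψ₀, ha]⟩
  let ψ : Multiplicative (Fin r → ℤ) ≃* (T0 k ⟶ L) :=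
    MulEquiv.ulift.symm.trans { Equiv.ofBijective ψ₀ hψb with map_mul' := hψm }
  refine ⟨r, ψ, fun X a b h => ?_, fun X v => ?_⟩
  · rw [← cancel_epi (E.inv ≫ χ.hom)]
    refine Over.OverMorphism.ext (Sigma.hom_ext _ _ fun m => ?_)
    have h' := congrArg Over.Hom.left (h (ψ₀ m))
    simp only [ψ₀, Category.assoc] at h'
    exact h'
  · let c : TwC.const (Spec (CommRingCat.of k)) Z ⟶ X := Over.homMk (Sigma.desc fun m => (v (ψ₀ m)).left)
      (Sigma.hom_ext _ _ fun m => by rw [Sigma.ι_desc_assoc, Over.w]; exact (Sigma.ι_desc (fun _ : Z => 𝟙 _) m).symm)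
    refine ⟨χ.inv ≫ E.hom ≫ c, fun x => ?_⟩
    obtain ⟨m, rfl⟩ := hψb.2 x
    simp only [ψ₀, Category.assoc, Iso.hom_inv_id_assoc, Iso.inv_hom_id_assoc]
    exact Over.OverMorphism.ext (Sigma.ι_desc _ m)

variable {L : Over (Spec (CommRingCat.of k))} [GrpObj L]

omit [IsAlgClosed k] in
theorem eq_one_of_pow {r : ℕ} (ψ : Multiplicative (Fin r → ℤ) ≃* (T0 k ⟶ L)) {x : T0 k ⟶ L} {m : ℕ} (hm : 0 < m)
    (h : x ^ m = 1) : x = 1 := by
  obtain ⟨a, rfl⟩ := ψ.surjective x
  rw [← map_pow, map_eq_one_iff ψ ψ.injective] at h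
  rw [map_eq_one_iff ψ ψ.injective]
  refine Multiplicative.toAdd.injective (funext fun i => ?_)
  have h' := congrFun (congrArg Multiplicative.toAdd h) i
  simp only [toAdd_pow, toAdd_one, Pi.smul_apply, Pi.zero_apply, nsmul_eq_mul, mul_eq_zero] at h' ⊢
  exact h'.resolve_left (by exact_mod_cast hm.ne')

omit [IsAlgClosed k] in
theorem eq_one_of_divisible {r : ℕ} (ψ : Multiplicative (Fin r → ℤ) ≃* (T0 k ⟶ L)) {x : T0 k ⟶ L}
    (h : ∀ m : ℕ, 0 < m → ∃ y, y ^ m = x) : x = 1 := by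
  obtain ⟨a, rfl⟩ := ψ.surjective x
  rw [map_eq_one_iff ψ ψ.injective]
  refine Multiplicative.toAdd.injective (funext fun i => ?_)
  obtain ⟨y, hy⟩ := h ((Multiplicative.toAdd a i).natAbs + 1) (by omega)
  obtain ⟨b, rfl⟩ := ψ.surjective y
  rw [← map_pow, ψ.injective.eq_iff] at hy
  have h' := congrFun (congrArg Multiplicative.toAdd hy) i
  simp only [toAdd_pow, Pi.smul_apply, nsmul_eq_mul] at h'
  rw [toAdd_one, Pi.zero_apply]
  have hd : (((Multiplicative.toAdd a i).natAbs + 1 : ℕ) : ℤ) ∣ Multiplicative.toAdd a i := ⟨_, h'.symm⟩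
  rw [Int.natCast_dvd] at hd
  by_contra hne
  exact absurd (Nat.le_of_dvd (Int.natAbs_pos.2 hne) hd) (by omega)

omit [IsAlgClosed k] in
/-- A subgroup of a finitely generated group with divisible quotient is everything. -/
theorem top_of_divisible {r : ℕ} (ψ : Multiplicative (Fin r → ℤ) ≃* (T0 k ⟶ L)) (H : Subgroup (T0 k ⟶ L))
    (h : ∀ m : ℕ, 0 < m → ∀ x, ∃ y, x * (y ^ m)⁻¹ ∈ H) : H = ⊤ := by
  let H' : AddSubgroup (Fin r → ℤ) := Subgroup.toAddSubgroup' (H.comap ψ.toMonoidHom)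
  let H'' : Submodule ℤ (Fin r → ℤ) := AddSubgroup.toIntSubmodule H'
  let C := (Fin r → ℤ) ⧸ H''
  have hdiv : ∀ m : ℕ, 0 < m → ∀ c : C, ∃ d : C, (m : ℤ) • d = c := fun m hm c => by
    obtain ⟨a, rfl⟩ := Submodule.Quotient.mk_surjective H'' c
    obtain ⟨y, hy⟩ := h m hm (ψ (Multiplicative.ofAdd a))
    obtain ⟨b, rfl⟩ := ψ.surjective y
    refine ⟨Submodule.Quotient.mk (Multiplicative.toAdd b), ?_⟩
    rw [← Submodule.Quotient.mk_smul, eq_comm, Submodule.Quotient.eq]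
    rw [← map_pow, ← map_inv, ← map_mul] at hy
    show Multiplicative.ofAdd (a - (m : ℤ) • Multiplicative.toAdd b) ∈ H.comap ψ.toMonoidHom
    refine Subgroup.mem_comap.2 ?_
    rw [show Multiplicative.ofAdd (a - (m : ℤ) • Multiplicative.toAdd b) = Multiplicative.ofAdd a * (b ^ m)⁻¹ from
      Multiplicative.toAdd.injective (by simp [sub_eq_add_neg, natCast_zsmul])]
    exact hy
  obtain ⟨t, ht, htC⟩ := Submodule.exists_sub_one_mem_and_smul_eq_zero_of_fg_of_le_smul (Ideal.span {(2 : ℤ)})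
    (⊤ : Submodule ℤ C) Module.Finite.fg_top fun c _ => by
      obtain ⟨d, rfl⟩ := hdiv 2 two_pos c
      exact Submodule.smul_mem_smul (Ideal.mem_span_singleton_self _) trivial
  have ht0 : t ≠ 0 := by
    rintro rfl
    rw [zero_sub, Ideal.neg_mem_iff, Ideal.mem_span_singleton] at ht
    norm_num at ht
  have hC : ∀ c : C, c = 0 := fun c => by
    obtain ⟨d, rfl⟩ := hdiv t.natAbs (Int.natAbs_pos.2 ht0) c
    rcases Int.natAbs_eq t with e | e
    · rw [← e]; exact htC d trivial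
    · have := htC d trivial
      rw [e, neg_smul, neg_eq_zero] at this
      exact this
  refine eq_top_iff.2 fun x _ => ?_
  obtain ⟨a, rfl⟩ := ψ.surjective x
  have := (Submodule.Quotient.mk_eq_zero H'').1 (hC (Submodule.Quotient.mk (Multiplicative.toAdd a)))
  exact this

end Groth.Agent.OneMot8
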