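import Groth.Agent.Lib.OneMot8.Lat
import Groth.Agent.Lib.OneMot8.Ext

/-!
# The torsion realizations of one-motives over an algebraically closed field of characteristic zero
-/

set_option autoImplicit false
set_option maxSynthPendingDepth 3
set_option backward.isDefEq.respectTransparency false

universe u

open CategoryTheory CategoryTheory.Limits MonoidalCategory CartesianMonoidalCategory MonObj AlgebraicGeometry

noncomputable section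

namespace Groth.Agent.OneMot8

variable {k : Type u} [Field k]

variable {M N : OneMot.Motive (Spec (CommRingCat.of k))}

theorem tz_mem {m : ℕ} {x : T0 k ⟶ M.L} {g : T0 k ⟶ M.G} (h : (x ≫ M.u) * g ^ m = 1) :
    ((Additive.ofMul x, Additive.ofMul g) : Additive (T0 k ⟶ M.L) × Additive (T0 k ⟶ M.G)) ∈
      OneMot.tzPairs M m (T0 k) := by
  show Additive.ofMul (x ≫ M.u) = -(m • Additive.ofMul g)
  rw [← ofMul_pow, ← ofMul_inv, eq_inv_of_mul_eq_one_left h]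

/-- The class of a pair. -/
def cls (m : ℕ) (x : T0 k ⟶ M.L) (g : T0 k ⟶ M.G) (h : (x ≫ M.u) * g ^ m = 1) : OneMot.TZMod M m (T0 k) :=
  QuotientAddGroup.mk ⟨_, tz_mem h⟩

theorem cls_surj {m : ℕ} (c : OneMot.TZMod M m (T0 k)) : ∃ x g h, cls m x g h = c := by
  obtain ⟨⟨⟨x, g⟩, hp⟩, rfl⟩ := QuotientAddGroup.mk_surjective c
  refine ⟨x.toMul, g.toMul, ?_, rfl⟩
  have hp' : x.toMul ≫ M.u = (g.toMul ^ m)⁻¹ := congrArg Additive.toMul hp
  rw [hp', inv_mul_cancel]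

theorem exists_of_cls_eq {m : ℕ} {x x' : T0 k ⟶ M.L} {g g' : T0 k ⟶ M.G} {h h'} (e : cls m x g h = cls m x' g' h') :
    ∃ y : T0 k ⟶ M.L, x' = x * y ^ m ∧ g' = g * (y ≫ M.u)⁻¹ := by
  obtain ⟨y, hy⟩ := QuotientAddGroup.eq.1 e
  have h1 : y.toMul ^ m = x⁻¹ * x' := congrArg (fun w => Additive.toMul w.1) hy
  have h2 : (y.toMul ≫ M.u)⁻¹ = g⁻¹ * g' := congrArg (fun w => Additive.toMul w.2) hy
  exact ⟨y.toMul, by rw [h1, mul_inv_cancel_left], by rw [h2, mul_inv_cancel_left]⟩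

theorem cls_map_mem (f : OneMot.Motive.Hom M N) {m : ℕ} {x : T0 k ⟶ M.L} {g : T0 k ⟶ M.G}
    (h : (x ≫ M.u) * g ^ m = 1) : ((x ≫ f.fL) ≫ N.u) * (g ≫ f.fG) ^ m = 1 := by
  rw [Category.assoc, ← f.comm, ← Category.assoc, ← Isogeny14.hom_pow_comp f.fG g, ← MonObj.mul_comp, h,
    MonObj.one_comp]

theorem tzMap_cls (f : OneMot.Motive.Hom M N) {m : ℕ} {x : T0 k ⟶ M.L} {g : T0 k ⟶ M.G}
    (h : (x ≫ M.u) * g ^ m = 1) :
    OneMot.tzMap m (T0 k) f (cls m x g h) = cls m (x ≫ f.fL) (g ≫ f.fG) (cls_map_mem f h) := rfl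

theorem one_pair {m : ℕ} {g : T0 k ⟶ M.G} (hg : g ^ m = 1) :
    ((1 : T0 k ⟶ M.L) ≫ M.u) * g ^ m = 1 := by rw [MonObj.one_comp, hg, _root_.mul_one]

variable [IsAlgClosed k] [CharZero k]

/-- Faithfulness. -/
theorem hom_eq (f g : OneMot.Motive.Hom M N)
    (h : ∀ m : ℕ, 1 ≤ m → OneMot.tzMap m (T0 k) f = OneMot.tzMap m (T0 k) g) : f = g := by
  obtain ⟨hG, hGl, hGq⟩ := isSA_of_isSemiAbWith M.semiAb
  obtain ⟨-, hG'l, hG'q⟩ := isSA_of_isSemiAbWith N.semiAb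
  haveI := hGl; haveI := hGq; haveI := hG'l; haveI := hG'q
  obtain ⟨r, ψ, hext, -⟩ := lattice_points M.L M.lattice
  obtain ⟨r', ψ', -, -⟩ := lattice_points N.L N.lattice
  have key : ∀ m : ℕ, 0 < m → ∀ (x : T0 k ⟶ M.L) (y : T0 k ⟶ M.G) (_ : (x ≫ M.u) * y ^ m = 1),
      ∃ z : T0 k ⟶ N.L, x ≫ g.fL = (x ≫ f.fL) * z ^ m ∧ y ≫ g.fG = (y ≫ f.fG) * (z ≫ N.u)⁻¹ :=
    fun m hm x y hxy => exists_of_cls_eq
      (by rw [← tzMap_cls f hxy, ← tzMap_cls g hxy, h m hm] :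
        cls m (x ≫ f.fL) (y ≫ f.fG) (cls_map_mem f hxy) = cls m (x ≫ g.fL) (y ≫ g.fG) (cls_map_mem g hxy))
  have hL : f.fL = g.fL := hext _ _ _ fun x => by
    have := eq_one_of_divisible ψ' (x := (x ≫ f.fL)⁻¹ * (x ≫ g.fL)) fun m hm => by
      obtain ⟨y, hy⟩ := divide hG hm (x ≫ M.u)⁻¹
      obtain ⟨z, hz, -⟩ := key m hm x y (by rw [hy, mul_inv_cancel])
      exact ⟨z, by rw [hz, inv_mul_cancel_left]⟩
    exact inv_mul_eq_one.1 this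
  have htor : ∀ m : ℕ, 0 < m → ∀ y : T0 k ⟶ M.G, y ^ m = 1 → y ≫ f.fG = y ≫ g.fG := fun m hm y hy => by
    obtain ⟨z, h1, h2⟩ := key m hm 1 y (one_pair hy)
    rw [MonObj.one_comp, MonObj.one_comp, _root_.one_mul] at h1
    rw [h2, eq_one_of_pow ψ' hm h1.symm, MonObj.one_comp, inv_one, _root_.mul_one]
  have hG' : f.fG = g.fG := by
    haveI := Semiab15.isMonHom_inv g.fG
    haveI := Semiab15.isMonHom_mul f.fG g.fG⁻¹
    have := eq_one_of_torsion hG (f.fG * g.fG⁻¹) fun m hm y hy => by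
      rw [MonObj.comp_mul, GrpObj.comp_inv, htor m hm y hy, mul_inv_cancel]
    exact mul_inv_eq_one.1 this
  exact OneMot.Motive.Hom.ext' hL hG'

/-- Conservativity. -/
theorem hom_isIso (f : OneMot.Motive.Hom M N)
    (h : ∀ m : ℕ, 1 ≤ m → Function.Bijective (OneMot.tzMap m (T0 k) f)) : f.IsIso := by
  obtain ⟨hG, hGl, hGq⟩ := isSA_of_isSemiAbWith M.semiAb
  obtain ⟨hG', hG'l, hG'q⟩ := isSA_of_isSemiAbWith N.semiAb
  haveI := hGl; haveI := hGq; haveI := hG'l; haveI := hG'q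
  obtain ⟨r, ψ, hext, -⟩ := lattice_points M.L M.lattice
  obtain ⟨r', ψ', hext', hdesc'⟩ := lattice_points N.L N.lattice
  letI : CommGroup (T0 k ⟶ M.L) := Hom.commGroup
  letI : CommGroup (T0 k ⟶ N.L) := Hom.commGroup
  letI : CommGroup (T0 k ⟶ M.G) := Hom.commGroup
  letI : CommGroup (T0 k ⟶ N.G) := Hom.commGroup
  have hinj : ∀ m : ℕ, 0 < m → ∀ (x : T0 k ⟶ M.L) (y : T0 k ⟶ M.G) (_ : (x ≫ M.u) * y ^ m = 1),
      x ≫ f.fL = 1 → y ≫ f.fG = 1 → ∃ z, x = z ^ m ∧ y = (z ≫ M.u)⁻¹ := fun m hm x y hxy hx hy => by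
    have e : cls m 1 1 (one_pair (one_pow m)) = cls m x y hxy := (h m hm).1 (by
      rw [tzMap_cls, tzMap_cls]
      congr 1 <;> simp only [MonObj.one_comp, hx, hy])
    obtain ⟨z, h1, h2⟩ := exists_of_cls_eq e
    exact ⟨z, by rw [h1, _root_.one_mul], by rw [h2, _root_.one_mul]⟩
  have hi : ∀ m : ℕ, 0 < m → ∀ y : T0 k ⟶ M.G, y ^ m = 1 → y ≫ f.fG = 1 → y = 1 := fun m hm y hy hy' => by
    obtain ⟨z, h1, h2⟩ := hinj m hm 1 y (one_pair hy) (MonObj.one_comp _) hy'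
    rw [h2, eq_one_of_pow ψ hm h1.symm, MonObj.one_comp, inv_one]
  have hs0 : ∀ m : ℕ, 0 < m → ∀ (x' : T0 k ⟶ N.L) (y' : T0 k ⟶ N.G) (_ : (x' ≫ N.u) * y' ^ m = 1),
      ∃ (x : T0 k ⟶ M.L) (y : T0 k ⟶ M.G) (_ : (x ≫ M.u) * y ^ m = 1) (z : T0 k ⟶ N.L),
        x' = (x ≫ f.fL) * z ^ m ∧ y' = (y ≫ f.fG) * (z ≫ N.u)⁻¹ := fun m hm x' y' hxy => by
    obtain ⟨c, hc⟩ := (h m hm).2 (cls m x' y' hxy)
    obtain ⟨x, y, hp, rfl⟩ := cls_surj c
    rw [tzMap_cls] at hc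
    obtain ⟨z, h1, h2⟩ := exists_of_cls_eq hc
    exact ⟨x, y, hp, z, h1, h2⟩
  have hLsurj : ∀ x' : T0 k ⟶ N.L, ∃ x, x ≫ f.fL = x' := fun x' => by
    let φ : (T0 k ⟶ M.L) →* (T0 k ⟶ N.L) :=
      { toFun := fun x => x ≫ f.fL, map_one' := MonObj.one_comp _, map_mul' := fun a b => MonObj.mul_comp _ _ _ }
    have := top_of_divisible ψ' φ.range fun m hm a => by
      obtain ⟨y', hy'⟩ := divide hG' hm (a ≫ N.u)⁻¹
      obtain ⟨x, y, -, z, h1, -⟩ := hs0 m hm a y' (by rw [hy', mul_inv_cancel])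
      exact ⟨z, x, by rw [h1, mul_inv_cancel_right]; rfl⟩
    exact (this ▸ Subgroup.mem_top x' : x' ∈ φ.range)
  haveI := mono_of_torsion hG f.fG hi
  have hLinj : ∀ x : T0 k ⟶ M.L, x ≫ f.fL = 1 → x = 1 := fun x hx => by
    have hu : x ≫ M.u = 1 := by
      rw [← cancel_mono f.fG, Category.assoc, f.comm, ← Category.assoc, hx, MonObj.one_comp, MonObj.one_comp]
    refine eq_one_of_divisible ψ fun m hm => ?_
    obtain ⟨z, hz, -⟩ := hinj m hm x 1 (by rw [hu, one_pow, _root_.one_mul]) hx (MonObj.one_comp _)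
    exact ⟨z, hz.symm⟩
  have hLinj' : ∀ x x' : T0 k ⟶ M.L, x ≫ f.fL = x' ≫ f.fL → x = x' := fun x x' e => by
    refine eq_of_mul_inv_eq_one (hLinj _ ?_)
    rw [MonObj.mul_comp, GrpObj.inv_comp, e, mul_inv_cancel]
  have hs : ∀ m : ℕ, 0 < m → ∀ y' : T0 k ⟶ N.G, y' ^ m = 1 → ∃ y, y ≫ f.fG = y' := fun m hm y' hy' => by
    obtain ⟨x, y, hxy, z, h1, h2⟩ := hs0 m hm 1 y' (one_pair hy')
    obtain ⟨w, rfl⟩ := hLsurj z
    refine ⟨y * (w ≫ M.u)⁻¹, ?_⟩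
    rw [h2, MonObj.mul_comp, GrpObj.inv_comp, Category.assoc, Category.assoc, f.comm]
  haveI := isIso_of_torsion hG hG' f.fG hs
  refine ⟨?_, ‹_›⟩
  choose v hv using hLsurj
  obtain ⟨g, hg⟩ := hdesc' M.L v
  refine ⟨g, hext _ _ _ fun x => ?_, hext' _ _ _ fun x => ?_⟩
  · rw [Category.comp_id, ← Category.assoc, hg]
    exact hLinj' _ _ (hv _)
  · rw [Category.comp_id, ← Category.assoc, hg, hv]

end Groth.Agent.OneMot8
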