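import Groth.Agent.Lib.OneMot8.Ext
import Groth.Agent.Lib.Semiab15.Torus
import Groth.Agent.Lib.Semiab15.Main
import Groth.Agent.Lib.TorusHom19.Basic
import Groth.Agent.Lib.MTRigid29.MonoClosedGlobal
import Groth.Agent.Lib.CentMT21.Basic

/-!
# Extensions of tori by abelian varieties
-/

set_option autoImplicit false
set_option maxSynthPendingDepth 3
set_option backward.isDefEq.respectTransparency false

universe u

open CategoryTheory CategoryTheory.Limits MonoidalCategory CartesianMonoidalCategory MonObj AlgebraicGeometry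

noncomputable section

namespace Groth.Agent.OneMot8

open Semiab15 (IsSA)

variable {k : Type u} [Field k]

/-- Being an isomorphism may be checked after any field extension. -/
theorem isIso_of_pullback {X Y : Over (Spec (CommRingCat.of k))} {K : Type u} [Field K]
    (π : Spec (CommRingCat.of K) ⟶ Spec (CommRingCat.of k)) (f : X ⟶ Y) (h : IsIso ((Over.pullback π).map f)) :
    IsIso f := by
  haveI := h
  haveI : IsIso ((Over.pullback π).map f).left :=
    inferInstanceAs (IsIso ((Over.forget _).map ((Over.pullback π).map f)))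
  haveI : Surjective π := ⟨fun z => ⟨IsLocalRing.closedPoint K, Subsingleton.elim (α := PrimeSpectrum k) _ _⟩⟩
  haveI : IsIso f.left := MorphismProperty.of_isPullback_of_descendsAlong
    (P := MorphismProperty.isomorphisms Scheme) (Q := @Surjective ⊓ @Flat ⊓ @QuasiCompact)
    (MTRigid29.isPullback_map_left π f).flip ⟨⟨inferInstance, inferInstance⟩, inferInstance⟩ ‹_›
  haveI : IsIso ((Over.forget _).map f) := ‹IsIso f.left›
  exact isIso_of_reflects_iso f (Over.forget _)

/-- Maximal tori of extensions of tori by abelian varieties. -/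
theorem torus_extension [IsAlgClosed k] (T A E : Over (Spec (CommRingCat.of k)))
    [GrpObj T] [IsCommMonObj T] (hT : Red.IsTorus T)
    [GrpObj A] [IsCommMonObj A] [Smooth A.hom] [IsProper A.hom]
    (hA : ∀ s : Spec (CommRingCat.of k), ConnectedSpace ↥(A.hom.fiber s))
    [GrpObj E] [IsCommMonObj E] (u : A ⟶ E) (v : E ⟶ T) [IsMonHom u] [IsMonHom v] (w : u ≫ v = 1)
    (hex : (CGrpSh.seq Scheme.fppfPrecoverage u v w).ShortExact) :
    Smooth E.hom ∧ ConnectedSpace ↥E.left ∧
      ∀ (T₀ : Over (Spec (CommRingCat.of k))) [GrpObj T₀] (i : T₀ ⟶ E), Red.IsMaximalTorus i →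
        IsFinite (i ≫ v).left ∧ Flat (i ≫ v).left ∧ Surjective (i ≫ v).left := by
  obtain ⟨hTl, hTq, -, -⟩ := Semiab15.torus_props hT
  haveI := hTl; haveI := hTq
  haveI := (TorPts21.smooth_connected_of_isTorus hT).1
  haveI : ConnectedSpace A.left := by
    let s : ↥(Spec (CommRingCat.of k)) := IsLocalRing.closedPoint k
    haveI := hA s
    have hs : Set.range (A.hom.fiberι s) = Set.univ := by
      rw [Scheme.Hom.range_fiberι]
      exact Set.eq_univ_of_forall fun z => Subsingleton.elim (α := PrimeSpectrum k) _ _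
    exact (Set.range_eq_univ.1 hs).connectedSpace (A.hom.fiberι s).continuous
  obtain ⟨hEl, hEq, hvf, hvs, hk, hsm⟩ := props_of_shortExact hex
  haveI := hEl; haveI := hEq; haveI := hvf; haveI := hvs
  haveI := hsm inferInstance inferInstance
  haveI := mono_of_shortExact hex
  haveI := Semiab15.isClosedImmersion_of_trivial_kernel u
  have hE : IsSA E := Semiab15.isSA_ext (Semiab15.isSA_of_isProper A) (Semiab15.isSA_of_isTorus T hT) u v hk
  obtain ⟨-, hEc⟩ := Semiab15.isSA_smooth_connected hE
  haveI := hEc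
  refine ⟨inferInstance, inferInstance, fun T₀ _ i hi => ?_⟩
  obtain ⟨σ, _, s, hs, hsc, hσ, hσs⟩ := Semiab15.exists_torus hT u v hk
  haveI := hs
  obtain ⟨T', _, i', A', _, q', hi', hi'c, hT', hq', -, -, hk', hA'p, -, -⟩ := hE
  haveI := hi'; haveI := hi'c; haveI := hq'; haveI := hA'p
  haveI : Mono i' := Over.mono_of_mono_left i'
  haveI := hi.1; haveI := hi.2.1
  obtain ⟨hT'l, hT'q, hT'a, -⟩ := Semiab15.torus_props hT'
  haveI := hT'l; haveI := hT'q; haveI := hT'a
  obtain ⟨a, ha⟩ := CharTorus15.exists_lift hk' i (TorusHom19.eq_one_of_isProper hi.2.2.1 (i ≫ q'))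
  let pt : ↥(Spec (CommRingCat.of k)) := IsLocalRing.closedPoint k
  haveI : IsIso a := isIso_of_pullback (Red.geomPt pt) a
    (hi.2.2.2 pt (Red.geomFibre pt T') ((Over.pullback (Red.geomPt pt)).map i')
      ((Over.pullback (Red.geomPt pt)).map a) (TorusHom19.isTorus_bc hT' (Red.geomPt pt))
      (by rw [← Functor.map_comp, ha]))
  haveI : IsIso a.left := inferInstanceAs (IsIso ((Over.forget _).map a))
  haveI : Surjective (i' ≫ v).left := by
    obtain ⟨b, hb⟩ := CharTorus15.exists_lift hk' s (TorusHom19.eq_one_of_isProper hσ (s ≫ q'))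
    have e : ((s ⊗ₘ u) ≫ μ[E]) ≫ v = (fst σ A ≫ b) ≫ i' ≫ v := by
      rw [show (s ⊗ₘ u) ≫ μ[E] = (fst σ A ≫ s) * (snd σ A ≫ u) by
        rw [Hom.mul_def, lift_fst_comp_snd_comp], Category.assoc (fst σ A), reassoc_of% hb, MonObj.mul_comp, Category.assoc, Category.assoc, w,
        MonObj.comp_one, _root_.mul_one]
    haveI : Surjective ((s ⊗ₘ u) ≫ μ[E]).left := hσs
    haveI : Surjective ((fst σ A ≫ b).left ≫ (i' ≫ v).left) := by
      rw [← Over.comp_left, ← e, Over.comp_left]
      infer_instance
    exact Surjective.of_comp (fst σ A ≫ b).left (i' ≫ v).left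
  obtain ⟨K, _, κ, hκ, hκc, hkκ⟩ := CharTorus15.exists_kernel (i' ≫ v)
  haveI := hκ; haveI := hκc
  haveI : IsFinite K.hom := by
    obtain ⟨c, hc⟩ := CharTorus15.exists_lift hk (κ ≫ i') (by rw [Category.assoc, CharTorus15.comp_eq_one hkκ])
    haveI : IsClosedImmersion (c.left ≫ u.left) := by rw [← Over.comp_left, hc, Over.comp_left]; infer_instance
    haveI : IsClosedImmersion c.left := IsClosedImmersion.of_comp c.left u.left
    haveI : IsProper K.hom := by rw [← Over.w c]; infer_instance
    haveI : IsAffineHom K.hom := by rw [← Over.w κ]; infer_instance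
    exact IsFinite.iff_isProper_and_isAffineHom.2 ⟨inferInstance, inferInstance⟩
  haveI := (TorPts21.smooth_connected_of_isTorus hT').1
  haveI : LocallyOfFinitePresentation T'.hom := inferInstance
  haveI hfl : Flat (i' ≫ v).left := CentMT21.flat_left_of_surjective (i' ≫ v)
  haveI : QuasiCompact (i' ≫ v).left := Semiab15.qc_left _
  haveI := Groth.Agent.FpqcDesc.descendsAlong_isFinite.{u}
  haveI hfin : IsFinite (i' ≫ v).left := AbRigid.of_kernel (i' ≫ v) κ hkκ @IsFinite ‹_›
  have he : (i ≫ v).left = a.left ≫ (i' ≫ v).left := by rw [← Over.comp_left, reassoc_of% ha]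
  rw [he]
  exact ⟨inferInstance, inferInstance, inferInstance⟩

end Groth.Agent.OneMot8
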